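import Groth.Agent.Et18.Descent0.ClosedPoint
import Groth.Agent.SGA1Quot.GeomTransitive
import Mathlib.AlgebraicGeometry.Morphisms.QuasiFinite

/-!
# The Cartan criterion with single finite étale coverings over a henselian local ring
-/

set_option autoImplicit false
set_option linter.all false
set_option backward.isDefEq.respectTransparency.types false
set_option backward.isDefEq.respectTransparency false
set_option backward.defeqAttrib.useBackward true
set_option synthInstance.maxHeartbeats 400000
set_option maxHeartbeats 800000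

universe u

open CategoryTheory CategoryTheory.Limits CategoryTheory.Abelian AlgebraicGeometry Opposite
open Groth.Agent.SiteCoh Groth.Agent.EtCechLib Groth.Agent.Et18.Descent0

namespace Groth.Agent.Desc19b.HenselRel

section General

variable {X : Scheme.{u}}

/-- The family with one member. -/
noncomputable abbrev one {U V : X.Etale} (j : V ⟶ U) : PUnit.{u + 2} → Over U := fun _ => Over.mk j

theorem jointlySurj_one {U V : X.Etale} (j : V ⟶ U) (hj : Surjective j.left) : JointlySurj U (one j) :=
  fun x => by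
    obtain ⟨y, hy⟩ := hj.surj x
    exact ⟨⟨⟩, y, hy⟩

theorem sections_eq_of_isEmpty (F : EtCoh.Ab X) {Z : X.Etale} [IsEmpty Z.left] (s t : F.obj.obj (op Z)) : s = t :=
  ext_of_cover F (fun e : PEmpty.{u + 2} => PEmpty.elim e)
    ((show JointlySurj Z (fun e : PEmpty.{u + 2} => (PEmpty.elim e : Over Z)) from
      fun x => (IsEmpty.false x).elim).mem |> fun h => by
        convert h using 2 <;> exact funext fun e => e.elim)
    fun e => e.elim

variable {U : X.Etale} {κ : Type u} (W : κ → Over U)

/-- The disjoint union of a family. -/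
noncomputable def sigmaEt : X.Etale :=
  haveI : ∀ k, Etale (W k).left.hom := fun k => (W k).left.prop
  haveI : Etale (Sigma.desc fun k => (W k).left.hom) :=
    IsZariskiLocalAtSource.sigmaDesc fun k => (W k).left.prop
  Scheme.Etale.mk (Sigma.desc fun k => (W k).left.hom)

/-- A member of the disjoint union. -/
noncomputable def sigmaι (k : κ) : (W k).left ⟶ sigmaEt W :=
  MorphismProperty.Over.homMk (Sigma.ι (fun k => (W k).left.left) k) (Sigma.ι_desc _ _)

/-- The map from the disjoint union. -/
noncomputable def sigmaHom : sigmaEt W ⟶ U :=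
  MorphismProperty.Over.homMk (Sigma.desc fun k => (W k).hom.left) (Sigma.hom_ext _ _ fun k => by
    rw [Sigma.ι_desc_assoc]
    exact (CategoryTheory.Over.w (W k).hom.hom).trans (Sigma.ι_desc (fun k => (W k).left.hom) k).symm)

theorem sigmaι_hom (k : κ) : sigmaι W k ≫ sigmaHom W = (W k).hom :=
  MorphismProperty.Over.Hom.ext (Sigma.ι_desc _ _)

theorem exists_glue (F : EtCoh.Ab X) (y : ∀ k, F.obj.obj (op (W k).left)) :
    ∃ s : F.obj.obj (op (sigmaEt W)), ∀ k, F.obj.map (sigmaι W k).op s = y k := by
  have hcov : JointlySurj (sigmaEt W) (fun k : ULift.{u + 1} κ => Over.mk (sigmaι W k.down)) := fun x => by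
    obtain ⟨i, z, hz⟩ := (sigmaOpenCover (fun k => (W k).left.left)).exists_eq x
    exact ⟨⟨i⟩, z, hz⟩
  obtain ⟨s, hs, -⟩ := existsUnique_amalgamation F (fun k : ULift.{u + 1} κ => sigmaι W k.down) hcov.mem
    (fun k => y k.down) fun i j Z gi gj h => by
      obtain ⟨i⟩ := i
      obtain ⟨j⟩ := j
      by_cases hij : i = j
      · subst hij
        have e : gi = gj := MorphismProperty.Over.Hom.ext
          ((cancel_mono (Sigma.ι (fun k => (W k).left.left) i)).1 (congrArg (fun f => f.left) h))
        rw [e]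
      · haveI : IsEmpty Z.left :=
          isEmpty_of_commSq_sigmaι_of_ne ⟨congrArg (fun f => f.left) h⟩ hij
        exact sections_eq_of_isEmpty F _ _
  exact ⟨s, fun k => hs ⟨k⟩⟩

theorem exists_lift_sigma {F G : EtCoh.Ab X} (g : F ⟶ G) (x : G.obj.obj (op U))
    (h : ∀ k, ∃ y, g.hom.app (op (W k).left) y = G.obj.map (W k).hom.op x) :
    ∃ s, g.hom.app (op (sigmaEt W)) s = G.obj.map (sigmaHom W).op x := by
  choose y hy using h
  obtain ⟨s, hs⟩ := exists_glue W F y
  refine ⟨s, ext_of_cover G (fun k : ULift.{u + 1} κ => sigmaι W k.down) ?_ fun k => ?_⟩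
  · exact (show JointlySurj (sigmaEt W) (fun k : ULift.{u + 1} κ => Over.mk (sigmaι W k.down)) from fun x => by
      obtain ⟨i, z, hz⟩ := (sigmaOpenCover (fun k => (W k).left.left)).exists_eq x
      exact ⟨⟨i⟩, z, hz⟩).mem
  · rw [← NatTrans.naturality_apply, hs, hy, ← ConcreteCategory.comp_apply, ← G.obj.map_comp, ← op_comp, sigmaι_hom]

theorem isFin_sigmaEt [Finite κ] (h : ∀ k, IsFin (W k).left) : IsFin (sigmaEt W) :=
  SGA1Quot.GeomTrans.isFinite_sigmaDesc (fun k => (W k).left.hom) h

end General

variable {A : Type u} [CommRing A] [HenselianLocalRing A]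

/-- Vanishing Čech cohomology of single finite étale coverings. -/
def FinAcyclic (F : EtCoh.Ab (Spec (CommRingCat.of A))) : Prop :=
  ∀ (U V : (Spec (CommRingCat.of A)).Etale) (j : V ⟶ U), IsFin U → IsFin V → Surjective j.left → ∀ p : ℕ,
    IsZero ((Cech.cx (pullPsh (Over.forget U) F) (one j)).homology (p + 1))

theorem exists_single_lift {F G : EtCoh.Ab (Spec (CommRingCat.of A))} (g : F ⟶ G) [Epi g]
    {U : (Spec (CommRingCat.of A)).Etale} (hU : IsFin U) (x : G.obj.obj (op U)) :
    ∃ (V : (Spec (CommRingCat.of A)).Etale) (j : V ⟶ U), IsFin V ∧ Surjective j.left ∧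
      ∃ y, g.hom.app (op V) y = G.obj.map j.op x := by
  obtain ⟨T, hT, hlift⟩ := exists_local_lift g x
  obtain ⟨ι, Y, ⟨-, hY, hjs⟩, hYT⟩ := (finBasis A).refine_ U hU T hT
  let κ : Type u := {u : U.left // U.hom u = IsLocalRing.closedPoint A}
  haveI : IsFinite U.hom := hU
  haveI : Finite κ := (U.hom.finite_preimage_singleton (IsLocalRing.closedPoint A)).to_subtype
  choose i y hy using fun u : κ => hjs u.1
  let W : κ → Over U := fun u => Y (i u)
  refine ⟨sigmaEt W, sigmaHom W, isFin_sigmaEt W fun u => hY _, ⟨fun z => ?_⟩,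
    exists_lift_sigma W g x fun u => hlift _ (hYT _)⟩
  have hopen : ∀ u, IsOpen (Set.range (W u).hom.left) := fun u => by
    haveI : Etale U.hom := U.prop
    haveI : Etale ((W u).hom.left ≫ U.hom) := by
      have h : (W u).hom.left ≫ U.hom = (W u).left.hom := CategoryTheory.Over.w (W u).hom.hom
      exact h ▸ (W u).left.prop
    haveI := Etale.of_comp (W u).hom.left U.hom
    exact (W u).hom.left.isOpenMap.isOpen_range
  have hall := eq_univ_of_closed_fibre U.hom (isOpen_iUnion hopen) fun v hv =>
    Set.mem_iUnion.2 ⟨⟨v, hv⟩, y ⟨v, hv⟩, hy ⟨v, hv⟩⟩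
  obtain ⟨u, t, ht⟩ := Set.mem_iUnion.1 (hall.symm ▸ Set.mem_univ z : z ∈ ⋃ u, Set.range (W u).hom.left)
  exact ⟨(sigmaι W u).left t, (congrArg (fun f => f.left t) (sigmaι_hom W u)).trans ht⟩

variable {S : ShortComplex (EtCoh.Ab (Spec (CommRingCat.of A)))}

theorem FinAcyclic.surjective_sections (hS : S.ShortExact) (h₁ : FinAcyclic S.X₁)
    {U : (Spec (CommRingCat.of A)).Etale} (hU : IsFin U) : Function.Surjective (S.g.hom.app (op U)) := by
  intro x
  haveI := hS.epi_g
  obtain ⟨V, j, hV, hj, hy⟩ := exists_single_lift S.g hU x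
  exact exists_lift_of_cech (Over.forget U) hS (one j) (fun _ => j) (jointlySurj_one j hj).mem
    (fun Z i i' f g => (Over.w f).trans (Over.w g).symm)
    (fun Z i i' f g h => ⟨Over.mk (f ≫ j), 𝟙 Z, Over.homMk f rfl, Over.homMk g h.symm,
      Category.id_comp _, Category.id_comp _⟩)
    (h₁ U V j hU hV hj 0) x fun _ => hy

theorem FinAcyclic.acyclic_X₃ (hS : S.ShortExact) (h₁ : FinAcyclic S.X₁) (h₂ : FinAcyclic S.X₂) :
    FinAcyclic S.X₃ := fun U V j hU hV hj p =>
  isZero_cech_X₃ (Over.forget U) hS (one j)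
    (fun a => h₁.surjective_sections hS (isFin_fan hU _ (fun _ => hV) (productIsProduct _)))
    p (h₂ U V j hU hV hj p) (h₁ U V j hU hV hj (p + 1))

theorem finAcyclic_of_injective (I : EtCoh.Ab (Spec (CommRingCat.of A))) [Injective I] : FinAcyclic I :=
  fun U V j _ _ _ p =>
  haveI := EtCechLib.injective_obj I
  EtCechLib.isZero_homology_of_injective (one j) I.obj p

/-- Higher cohomology of such sheaves vanishes. -/
theorem FinAcyclic.subsingleton_H {F : EtCoh.Ab (Spec (CommRingCat.of A))} (hF : FinAcyclic F) (n : ℕ) :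
    Subsingleton (EtCoh.H (Spec (CommRingCat.of A)) F (n + 1)) :=
  subsingleton_ext_of_class FinAcyclic (fun Y => Y = EtCoh.const (Spec (CommRingCat.of A)) ℤ)
    (fun G hG => ⟨_, _, _, _, (injEmbed G).zero, inferInstanceAs (Injective (Injective.under G)),
      injEmbed_shortExact G,
      (haveI : Injective (injEmbed G).X₂ := inferInstanceAs (Injective (Injective.under G))
       FinAcyclic.acyclic_X₃ (injEmbed_shortExact G) hG (finAcyclic_of_injective _)),
      fun _ hY => hY ▸ fun a => EtCechLib.exists_lift_const (EtCore.topIsTerminal _) (injEmbed G).g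
        (hG.surjective_sections (injEmbed_shortExact G) isFin_top) a⟩)
    rfl hF n

end Groth.Agent.Desc19b.HenselRel
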