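import Groth.Agent.Desc19b.HenselRel.Basis1
import Groth.Agent.Desc19b.SmoothFppf.Alg

/-!
# Intersections of an affine étale covering and tensor powers
-/

set_option autoImplicit false
set_option linter.all false
set_option backward.isDefEq.respectTransparency.types false
set_option backward.isDefEq.respectTransparency false
set_option synthInstance.maxHeartbeats 400000

universe u

open CategoryTheory CategoryTheory.Limits AlgebraicGeometry Opposite TensorProduct
open Groth.Agent.SiteCoh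

namespace Groth.Agent.Desc19b.HenselRel

open AmitsurCech

theorem etale_T (A B : Type u) [CommRing A] [CommRing B] [Algebra A B] [Algebra.Etale A B] (n : ℕ) :
    Algebra.Etale A (T A B n) := by
  induction n with
  | zero => exact Algebra.Etale.of_equiv (SmoothFppf.Alg.T0Equiv A B)
  | succ n ih =>
    haveI := ih
    haveI : Algebra.Etale A (B ⊗[A] T A B n) := Algebra.Etale.comp A B (B ⊗[A] T A B n)
    exact Algebra.Etale.of_equiv (SmoothFppf.Alg.TSuccEquiv A B n).symm

variable {X : Scheme.{u}} {U V : X.Etale} (j : V ⟶ U) [IsAffine U.left] [IsAffine V.left]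
  [Algebra Γ(U.left, ⊤) Γ(V.left, ⊤)]
  (hj : CommRingCat.ofHom (algebraMap Γ(U.left, ⊤) Γ(V.left, ⊤)) = j.left.appTop)

/-- The tensor powers of the functions. -/
noncomputable abbrev TT (j : V ⟶ U) (n : ℕ) : CommRingCat.{u} := T Γ(U.left, ⊤) Γ(V.left, ⊤) n

variable {n : ℕ} (a : Fin (n + 1) → PUnit.{u + 2})

/-- An intersection. -/
noncomputable abbrev I₁ : Over U := Cech.inter (one j) a

/-- A projection of an intersection. -/
noncomputable abbrev pr₁ (k : Fin (n + 1)) : (I₁ j a).left.left ⟶ V.left :=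
  (Pi.π (fun k => one j (a k)) k).left.left

theorem pr₁_j (k : Fin (n + 1)) : pr₁ j a k ≫ j.left = (I₁ j a).hom.left :=
  congrArg (fun f => f.left) (Over.w (Pi.π (fun k => one j (a k)) k))

include hj in
theorem ψ₁_cond (k : Fin (n + 1)) :
    CommRingCat.ofHom (algebraMap Γ(U.left, ⊤) Γ(V.left, ⊤)) ≫ (pr₁ j a k).appTop = (I₁ j a).hom.left.appTop := by
  rw [hj, ← Scheme.Hom.comp_appTop]
  exact congrArg Scheme.Hom.appTop (pr₁_j j a k)

/-- Functions on an intersection from a tensor power. -/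
noncomputable def ψ₁ : TT j n ⟶ Γ((I₁ j a).left.left, ⊤) :=
  WidePushout.desc (I₁ j a).hom.left.appTop (fun k => (pr₁ j a k).appTop) (ψ₁_cond j hj a)

theorem inj_ψ₁ (k : Fin (n + 1)) :
    inj Γ(U.left, ⊤) Γ(V.left, ⊤) n k ≫ ψ₁ j hj a = (pr₁ j a k).appTop :=
  WidePushout.ι_desc _ _ _ _ k

theorem hd_ψ₁ : hd Γ(U.left, ⊤) Γ(V.left, ⊤) n ≫ ψ₁ j hj a = (I₁ j a).hom.left.appTop :=
  WidePushout.head_desc _ _ _ _

include hj in
theorem etale_algebraMap : Algebra.Etale Γ(U.left, ⊤) Γ(V.left, ⊤) := by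
  have : Etale U.hom := U.prop
  have : Etale (j.left ≫ U.hom) := by
    have h : j.left ≫ U.hom = V.hom := CategoryTheory.Over.w j.hom
    exact h ▸ V.prop
  have : Etale j.left := Etale.of_comp j.left U.hom
  have h := HasRingHomProperty.appTop (P := @Etale) j.left inferInstance
  rw [← hj] at h
  exact RingHom.etale_algebraMap.1 h

theorem isIso_ψ₁ : IsIso (ψ₁ j hj a) := by
  haveI := etale_algebraMap j hj
  haveI := etale_T Γ(U.left, ⊤) Γ(V.left, ⊤) n
  let A := Γ(U.left, ⊤)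
  let B := Γ(V.left, ⊤)
  let w : Spec (TT j n) ⟶ U.left := Spec.map (hd A B n) ≫ U.left.isoSpec.inv
  haveI : Etale (Spec.map (hd A B n)) := (HasRingHomProperty.Spec_iff (P := @Etale)).2
    (RingHom.etale_algebraMap.2 (etale_T A B n))
  haveI : Etale U.hom := U.prop
  let W : Over U := Over.mk (MorphismProperty.Over.homMk w rfl : Scheme.Etale.mk (w ≫ U.hom) ⟶ U)
  have hw : ∀ k, (Spec.map (inj A B n k) ≫ V.left.isoSpec.inv) ≫ j.left = w := fun k => by
    rw [Category.assoc, ← Scheme.isoSpec_inv_naturality j.left, ← hj, ← Category.assoc, ← Spec.map_comp]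
    exact congrArg (fun f => Spec.map f ≫ U.left.isoSpec.inv)
      (WidePushout.arrow_ι (fun _ : Fin (n + 1) => CommRingCat.ofHom (algebraMap A B)) k)
  let l : W ⟶ I₁ j a := Pi.lift (f := fun k => one j (a k)) fun k =>
    Over.homMk (MorphismProperty.Over.homMk (Spec.map (inj A B n k) ≫ V.left.isoSpec.inv) (by
      show (Spec.map (inj A B n k) ≫ V.left.isoSpec.inv) ≫ V.hom = w ≫ U.hom
      rw [← hw k, Category.assoc (Spec.map (inj A B n k) ≫ V.left.isoSpec.inv),
        show j.left ≫ U.hom = V.hom from CategoryTheory.Over.w j.hom]))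
      (MorphismProperty.Over.Hom.ext (hw k))
  have hl : ∀ k, l.left.left ≫ pr₁ j a k = Spec.map (inj A B n k) ≫ V.left.isoSpec.inv := fun k =>
    congrArg (fun f : W ⟶ one j (a k) => f.left.left)
      (show l ≫ Pi.π (fun k => one j (a k)) k = _ from Pi.lift_π _ k)
  have hlh : l.left.left ≫ (I₁ j a).hom.left = w := congrArg (fun f => f.left) (Over.w l)
  have hspec : ∀ {Y : Scheme.{u}} [IsAffine Y] {R : CommRingCat.{u}} (f : Γ(Y, ⊤) ⟶ R),
      (Spec.map f ≫ Y.isoSpec.inv).appTop = f ≫ (Scheme.ΓSpecIso R).inv := fun {Y} _ {R} f => by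
    simp [Scheme.isoSpec]
  have h1 : ψ₁ j hj a ≫ l.left.left.appTop = (Scheme.ΓSpecIso (TT j n)).inv := by
    refine WidePushout.hom_ext _ _ _ (fun k => ?_) ?_
    · show inj A B n k ≫ _ = inj A B n k ≫ _
      rw [← Category.assoc, inj_ψ₁, ← Scheme.Hom.comp_appTop, hl, hspec]
    · show hd A B n ≫ _ = hd A B n ≫ _
      rw [← Category.assoc, hd_ψ₁, ← Scheme.Hom.comp_appTop, hlh, hspec]
  let i : (I₁ j a).left.left ⟶ Spec (TT j n) := (I₁ j a).left.left.toSpecΓ ≫ Spec.map (ψ₁ j hj a)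
  have hfst : ∀ k, i ≫ Spec.map (inj A B n k) ≫ V.left.isoSpec.inv = pr₁ j a k := fun k => by
    simp only [i]
    rw [Category.assoc, ← Spec.map_comp_assoc, inj_ψ₁]
    rw [← Scheme.toSpecΓ_naturality_assoc]
    show pr₁ j a k ≫ V.left.isoSpec.hom ≫ V.left.isoSpec.inv = _
    rw [Iso.hom_inv_id, Category.comp_id]
  have h2 : l.left.left ≫ i = 𝟙 _ := by
    simp only [i]
    rw [← Category.assoc, Scheme.toSpecΓ_naturality, Category.assoc, ← Spec.map_comp, h1]
    exact toSpecΓ_SpecMap_ΓSpecIso_inv _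
  have hbase : i ≫ w = (I₁ j a).hom.left := by
    rw [← hw 0, ← Category.assoc, hfst, pr₁_j]
  let i' : I₁ j a ⟶ W := Over.homMk (MorphismProperty.Over.homMk i (by
      show i ≫ w ≫ U.hom = (I₁ j a).left.hom
      rw [← Category.assoc, hbase]
      exact CategoryTheory.Over.w (I₁ j a).hom.hom))
    (MorphismProperty.Over.Hom.ext hbase)
  have h3 : i' ≫ l = 𝟙 _ := Pi.hom_ext _ _ fun k => by
    rw [Category.assoc, Pi.lift_π, Category.id_comp]
    exact Over.OverMorphism.ext (MorphismProperty.Over.Hom.ext (hfst k))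
  haveI : IsIso l.left.left := ⟨i, h2, congrArg (fun f => f.left.left) h3⟩
  haveI : IsIso (ψ₁ j hj a ≫ l.left.left.appTop) := by rw [h1]; infer_instance
  exact IsIso.of_isIso_comp_right (ψ₁ j hj a) l.left.left.appTop

theorem bijective_ψ₁ : Function.Bijective (ψ₁ j hj a).hom :=
  (ConcreteCategory.isIso_iff_bijective _).1 (isIso_ψ₁ j hj a)

theorem δ_ψ₁ (b : Fin (n + 2) → PUnit.{u + 2}) (i : Fin (n + 2)) :
    (arr Γ(U.left, ⊤) Γ(V.left, ⊤)).cechConerve.δ i ≫ ψ₁ j hj b =
      ψ₁ j hj (b ∘ i.succAbove) ≫ (Cech.face (one j) b i).left.left.appTop := by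
  have hfc : ∀ k, (Cech.face (one j) b i).left.left ≫ pr₁ j (b ∘ i.succAbove) k = pr₁ j b (i.succAbove k) := fun k =>
    congrArg (fun f : I₁ j b ⟶ one j (b (i.succAbove k)) => f.left.left)
      (show Cech.face (one j) b i ≫ Pi.π (fun k => one j ((b ∘ i.succAbove) k)) k = _ from Pi.lift_π _ k)
  refine WidePushout.hom_ext _ _ _ (fun k => ?_) ?_
  · refine ((Category.assoc _ _ _).symm.trans ((congrArg (· ≫ ψ₁ j hj b) (δ_inj _ _ n i k)).trans
      (inj_ψ₁ j hj b _))).trans ?_
    refine Eq.trans ?_ ((congrArg (· ≫ _) (inj_ψ₁ j hj (b ∘ i.succAbove) k)).symm.trans (Category.assoc _ _ _))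
    rw [← Scheme.Hom.comp_appTop, hfc]
  · refine ((Category.assoc _ _ _).symm.trans ((congrArg (· ≫ ψ₁ j hj b) (δ_hd _ _ n i)).trans
      (hd_ψ₁ j hj b))).trans ?_
    refine Eq.trans ?_ ((congrArg (· ≫ _) (hd_ψ₁ j hj (b ∘ i.succAbove))).symm.trans (Category.assoc _ _ _))
    rw [← Scheme.Hom.comp_appTop]
    exact congrArg Scheme.Hom.appTop (congrArg (fun f => f.left) (Over.w (Cech.face (one j) b i))).symm

end Groth.Agent.Desc19b.HenselRel
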