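import Groth.Agent.Desc19b.SmoothFppf.Sol
import Groth.Agent.HenselLib.Lift

/-!
# Relative unit cocycles over henselian pairs are coboundaries
-/

set_option autoImplicit false
set_option backward.isDefEq.respectTransparency.types false
set_option backward.isDefEq.respectTransparency false
set_option linter.style.haveILetI false
set_option linter.all false
set_option synthInstance.maxHeartbeats 400000

universe u

open TensorProduct

namespace Groth.Agent.Desc19b.SmoothFppf.Alg

open AmitsurCech

variable (A B : Type u) [CommRing A] [CommRing B] [Algebra A B]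

theorem zU_injective (n : ℕ) : Function.Injective (zU A B A n) := fun x y h => by
  have h' := congrArg (fun v : U A B A n => Algebra.TensorProduct.lid A (T A B n) v.toMul.val) h
  exact Additive.toMul.injective (Units.ext (by simpa [zU] using h'))

theorem zU_surjective (n : ℕ) : Function.Surjective (zU A B A n) := fun v => by
  refine ⟨Additive.ofMul (Units.map (Algebra.TensorProduct.lid A (T A B n)).toAlgHom.toRingHom.toMonoidHom v.toMul),
    U_ext A B ?_⟩
  show (1 : A) ⊗ₜ[A] (Algebra.TensorProduct.lid A (T A B n) v.toMul.val) = v.toMul.val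
  exact (Algebra.TensorProduct.lid A (T A B n)).symm_apply_apply v.toMul.val

/-- Cocycles trivial modulo a henselian ideal have primitives trivial modulo it. -/
theorem exists_primitive_rel [Module.Finite A B] [Module.Projective A B] [Module.FaithfullyFlat A B] (I : Ideal A)
    [HenselianRing A I] (r : ℕ) (z : Additive (T A B (r + 1))ˣ) (hz : dT A B (r + 1) z = 0)
    (hzI : zU A B (A ⧸ I) (r + 1) z = 0) :
    ∃ y : Additive (T A B r)ˣ, dT A B r y = z ∧ zU A B (A ⧸ I) r y = 0 := by
  haveI := finite_T A B r
  haveI := projective_T A B r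
  obtain ⟨m, p, σ, -, -, hpσ⟩ := Module.Finite.exists_comp_eq_id_of_projective A (T A B r)
  obtain ⟨C, _, _, hfp, yC, gl, gr, hyC, hgl, hgr, hom_of, hext⟩ := exists_universal A B r z hpσ
  haveI : Algebra.Smooth A C := ⟨formallySmooth_universal A B r z hz hpσ yC gl gr hyC hgl hgr hom_of hext, hfp⟩
  let w : U A B (A ⧸ I) r := 0
  obtain ⟨f, hf, -⟩ := hom_of (A ⧸ I) w _ _ (by rw [map_zero, hzI]) (comb_coef A hpσ w.toMul.val)
    (comb_coef A hpσ w.toMul.inv)
  have hfy : chgU A B f r yC = w := U_ext A B (by
    rw [chgU_val, ← hgl, chg_comb]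
    exact (congrArg (comb A _ p) (funext hf)).trans (comb_coef A hpσ w.toMul.val))
  obtain ⟨τ, hτ⟩ := HenselLib.exists_lift_of_smooth I f
  obtain ⟨y, hy⟩ := zU_surjective A B r (chgU A B τ r yC)
  refine ⟨y, zU_injective A B (r + 1) ?_, ?_⟩
  · rw [zU_dT, hy, ← chgU_dU, hyC, chgU_zU]
  · rw [← chgU_zU A B (Ideal.Quotient.mkₐ A I) r y, hy]
    refine U_ext A B ?_
    rw [chgU_val, chgU_val, chg_chg, hτ, ← chgU_val, hfy]

end Groth.Agent.Desc19b.SmoothFppf.Alg
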