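import Groth.Agent.Desc19b.HenselRel.GmKernel
import Groth.Agent.Desc19b.HenselRel.Inter
import Groth.Agent.Desc19b.HenselRel.UnitPrimitive
import Groth.Agent.HenselLib.Perm
import Groth.Agent.EtLimit.HMaps

/-!
# Pullback of `G_m`-cohomology to closed subschemes of a henselian local scheme
-/

set_option autoImplicit false
set_option linter.all false
set_option backward.isDefEq.respectTransparency.types false
set_option backward.isDefEq.respectTransparency false
set_option synthInstance.maxHeartbeats 400000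

universe u

open CategoryTheory CategoryTheory.Limits CategoryTheory.Abelian AlgebraicGeometry Opposite TensorProduct
open Groth.Agent.SiteCoh Groth.Agent.EtCechLib Groth.Agent.Et18.Descent0

namespace Groth.Agent.Desc19b.HenselRel

open AmitsurCech SmoothFppf

theorem zU_quot_eq_zero_iff (A B : Type u) [CommRing A] [CommRing B] [Algebra A B] (I : Ideal A) (n : ℕ)
    (v : Additive (T A B n)ˣ) :
    Alg.zU A B (A ⧸ I) n v = 0 ↔ (v.toMul.val : T A B n) - 1 ∈ I.map (algebraMap A (T A B n)) := by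
  have h1 : Alg.zU A B (A ⧸ I) n v = 0 ↔ (1 : A ⧸ I) ⊗ₜ[A] (v.toMul.val : T A B n) = 1 :=
    ⟨fun h => congrArg (fun w : Alg.U A B (A ⧸ I) n => w.toMul.val) h, fun h => Alg.U_ext A B h⟩
  rw [h1, Algebra.TensorProduct.one_def, ← Algebra.TensorProduct.quotIdealMapEquivQuotTensor_mk,
    ← Algebra.TensorProduct.quotIdealMapEquivQuotTensor_mk, EmbeddingLike.apply_eq_iff_eq, Ideal.Quotient.eq]

theorem mem_map_of_bijective {A₁ A₂ : Type u} [CommRing A₁] [CommRing A₂] (f : A₁ →+* A₂)
    (hf : Function.Bijective f) (J : Ideal A₁) (x : A₁) : f x ∈ J.map f ↔ x ∈ J := by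
  refine ⟨fun h => ?_, Ideal.mem_map_of_mem f⟩
  obtain ⟨y, hy, hyx⟩ := (Ideal.mem_map_iff_of_surjective f hf.2).1 h
  exact hf.1 hyx ▸ hy

variable {R : Type u} [CommRing R] [HenselianLocalRing R] (I : Ideal R)

/-- Units congruent to one on the closed fibre. -/
noncomputable abbrev gmSeq : ShortComplex (EtCoh.Ab (Spec (CommRingCat.of R))) :=
  ShortComplex.mk (kernel.ι (gmMap I)) (gmMap I) (kernel.condition _)

theorem gmSeq_shortExact : (gmSeq I).ShortExact :=
  haveI := epi_gmMap I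
  { exact := ShortComplex.exact_of_f_is_kernel _ (kernelIsKernel (gmMap I)) }

section Inter

variable {U V : (Spec (CommRingCat.of R)).Etale} (j : V ⟶ U) [IsAffine U.left] [IsAffine V.left]
  [Algebra Γ(U.left, ⊤) Γ(V.left, ⊤)]
  (hj : CommRingCat.ofHom (algebraMap Γ(U.left, ⊤) Γ(V.left, ⊤)) = j.left.appTop)

/-- The ideal of the closed fibre. -/
noncomputable abbrev cI (I : Ideal R) (U : (Spec (CommRingCat.of R)).Etale) : Ideal Γ(U.left, ⊤) :=
  I.map (strMap U)

/-- Units of a tensor power as sections over the intersection. -/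
noncomputable def secT {n : ℕ} (a : Fin (n + 1) → PUnit.{u + 2}) :
    Additive (TT j n)ˣ →+ (EtCoh.Gm (Spec (CommRingCat.of R))).obj.obj (op (Cech.inter (one j) a).left) where
  toFun v := secU (Units.map (ψ₁ j hj a).hom.toMonoidHom v.toMul)
  map_zero' := by
    show secU (Units.map _ 1) = _
    rw [map_one]
    rfl
  map_add' x y := by
    show secU (Units.map _ (x.toMul * y.toMul)) = _
    rw [map_mul]
    rfl

theorem secT_injective {n : ℕ} (a : Fin (n + 1) → PUnit.{u + 2}) : Function.Injective (secT j hj a) :=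
  fun x y h => Additive.toMul.injective (Units.ext ((bijective_ψ₁ j hj a).1
    (congrArg (fun v => (Additive.toMul (ULift.down v)).val) h)))

theorem secT_surjective {n : ℕ} (a : Fin (n + 1) → PUnit.{u + 2}) : Function.Surjective (secT j hj a) := by
  intro x
  obtain ⟨u, rfl⟩ := exists_secU x
  let e := RingEquiv.ofBijective (ψ₁ j hj a).hom (bijective_ψ₁ j hj a)
  exact ⟨Additive.ofMul (Units.map e.symm.toMonoidHom u),
    congrArg (fun w => ULift.up (Additive.ofMul w)) (Units.ext (e.apply_symm_apply _))⟩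

theorem map_face_secT {n : ℕ} (b : Fin (n + 2) → PUnit.{u + 2}) (i : Fin (n + 2)) (x : Additive (TT j n)ˣ) :
    (EtCoh.Gm (Spec (CommRingCat.of R))).obj.map (Cech.face (one j) b i).left.op (secT j hj (b ∘ i.succAbove) x) =
      secT j hj b ((Units.map (δA Γ(U.left, ⊤) Γ(V.left, ⊤) n i).toRingHom.toMonoidHom).toAdditive x) :=
  congrArg (fun w => ULift.up (Additive.ofMul w)) (Units.ext
    (congrArg (fun f => f.hom x.toMul.val) (δ_ψ₁ j hj b i)).symm)

theorem gmMap_secT_eq_zero_iff {n : ℕ} (a : Fin (n + 1) → PUnit.{u + 2}) [IsAffine (Cech.inter (one j) a).left.left]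
    (v : Additive (TT j n)ˣ) :
    (gmMap I).hom.app (op (Cech.inter (one j) a).left) (secT j hj a v) = 0 ↔
      Alg.zU Γ(U.left, ⊤) Γ(V.left, ⊤) (Γ(U.left, ⊤) ⧸ cI I U) n v = 0 := by
  rw [zU_quot_eq_zero_iff]
  refine (gmMap_eq_zero_iff I _ _).trans ?_
  have e : strMap (Cech.inter (one j) a).left =
      (ψ₁ j hj a).hom.comp ((algebraMap Γ(U.left, ⊤) (TT j n)).comp (strMap U)) := by
    have h1 : (Cech.inter (one j) a).left.hom = (I₁ j a).hom.left ≫ U.hom :=
      (CategoryTheory.Over.w (I₁ j a).hom.hom).symm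
    show ((Scheme.ΓSpecIso (CommRingCat.of R)).inv ≫ (Cech.inter (one j) a).left.hom.appTop).hom = _
    rw [h1, Scheme.Hom.comp_appTop, ← hd_ψ₁ j hj a]
    rfl
  rw [e, ← Ideal.map_map, ← Ideal.map_map]
  show (ψ₁ j hj a).hom v.toMul.val - 1 ∈ _ ↔ _
  rw [← map_one (ψ₁ j hj a).hom, ← map_sub]
  exact mem_map_of_bijective _ (bijective_ψ₁ j hj a) _ _

end Inter

theorem finAcyclic_kernel (hI : I ≠ ⊤) : FinAcyclic (kernel (gmMap I)) := by
  intro U V j hU hV hjs p
  rw [Cech.isZero_homology_succ_iff]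
  intro z hz
  haveI := isAffine_of_isFin hU
  haveI := isAffine_of_isFin hV
  letI : Algebra Γ(U.left, ⊤) Γ(V.left, ⊤) := j.left.appTop.hom.toAlgebra
  have hj : CommRingCat.ofHom (algebraMap Γ(U.left, ⊤) Γ(V.left, ⊤)) = j.left.appTop := rfl
  haveI := etale_algebraMap j hj
  haveI : IsFinite j.left := isFinite_left j hU hV
  haveI : Module.Finite Γ(U.left, ⊤) Γ(V.left, ⊤) := IsFinite.finite_app j.left ⊤ (isAffineOpen_top _)
  haveI : Module.FinitePresentation Γ(U.left, ⊤) Γ(V.left, ⊤) :=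
    Module.FinitePresentation.of_finite_of_finitePresentation _ _
  haveI : Module.Projective Γ(U.left, ⊤) Γ(V.left, ⊤) := Module.Flat.projective_of_finitePresentation
  haveI : Module.FaithfullyFlat Γ(U.left, ⊤) Γ(V.left, ⊤) := by
    refine Module.FaithfullyFlat.of_comap_surjective fun P => ?_
    obtain ⟨x, hx⟩ := hjs.surj (U.left.isoSpec.inv P)
    refine ⟨V.left.isoSpec.hom x, ?_⟩
    have h := congrArg (fun f => f x) (Scheme.isoSpec_hom_naturality j.left)
    show Spec.map j.left.appTop (V.left.isoSpec.hom x) = P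
    refine h.trans ?_
    show U.left.isoSpec.hom (j.left x) = P
    rw [hx]
    exact Scheme.inv_hom_apply _ _
  letI : Algebra R Γ(U.left, ⊤) := (strMap U).toAlgebra
  haveI : Module.Finite R Γ(U.left, ⊤) := finite_strMap hU
  haveI : HenselianRing Γ(U.left, ⊤) (cI I U) :=
    haveI := henselianRing_le I hI
    HenselLib.henselianRing_of_isIntegral I Γ(U.left, ⊤)
  have hfin : ∀ {n : ℕ} (a : Fin (n + 1) → PUnit.{u + 2}), IsAffine (Cech.inter (one j) a).left.left :=
    fun a => isAffine_of_isFin (isFin_fan hU _ (fun _ => hV) (productIsProduct _))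
  let ι := kernel.ι (gmMap I)
  have hinj : ∀ Q, Function.Injective (ι.hom.app (op Q)) := fun Q => sections_injective ι Q
  let a₀ : Fin (p + 1 + 1) → PUnit.{u + 2} := default
  obtain ⟨v, hv⟩ := secT_surjective j hj a₀ (ι.hom.app _ (Cech.ev (pullPsh (Over.forget U) (kernel (gmMap I))) (one j) a₀ z))
  have hva : ∀ a, secT j hj a v =
      ι.hom.app _ (Cech.ev (pullPsh (Over.forget U) (kernel (gmMap I))) (one j) a z) := fun a => by
    rw [Subsingleton.elim a a₀]
    exact hv
  have hdv : Alg.dT Γ(U.left, ⊤) Γ(V.left, ⊤) (p + 1) v = 0 := by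
    refine secT_injective j hj (default : Fin (p + 1 + 1 + 1) → PUnit.{u + 2}) ?_
    rw [map_zero, Alg.dT, map_sum]
    have hd := congrArg (Cech.ev (pullPsh (Over.forget U) (kernel (gmMap I))) (one j)
      (default : Fin (p + 1 + 1 + 1) → PUnit.{u + 2})) hz
    rw [Cech.ev_d, map_zero] at hd
    refine Eq.trans ?_ ((congrArg (ι.hom.app _) hd).trans (map_zero _))
    rw [map_sum]
    refine Finset.sum_congr rfl fun i _ => ?_
    rw [map_zsmul, ← map_face_secT, hva, map_zsmul]
    exact congrArg ((-1 : ℤ) ^ (i : ℕ) • ·) (NatTrans.naturality_apply ι.hom _ _).symm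
  haveI := hfin a₀
  have hvI : Alg.zU Γ(U.left, ⊤) Γ(V.left, ⊤) (Γ(U.left, ⊤) ⧸ cI I U) (p + 1) v = 0 := by
    rw [← gmMap_secT_eq_zero_iff I j hj a₀, hva]
    exact sections_comp_eq_zero (S := gmSeq I) _ _
  obtain ⟨y, hy, hyI⟩ := Alg.exists_primitive_rel Γ(U.left, ⊤) Γ(V.left, ⊤) (cI I U) p v hdv hvI
  have hw : ∀ a : Fin (p + 1) → PUnit.{u + 2}, ∃ w, ι.hom.app (op (Cech.inter (one j) a).left) w = secT j hj a y :=
    fun a => by
    haveI := hfin a
    exact sections_exact (gmSeq_shortExact I) _ _ ((gmMap_secT_eq_zero_iff I j hj a y).2 hyI)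
  choose w hw using hw
  refine ⟨Cech.mk _ (one j) w, Cech.ext _ _ fun b => hinj _ ?_⟩
  refine Eq.trans ?_ (hva b)
  rw [← hy, Alg.dT, map_sum, Cech.ev_d, map_sum]
  refine Finset.sum_congr rfl fun i _ => ?_
  rw [map_zsmul, map_zsmul, ← map_face_secT, Cech.ev_mk, ← hw]
  exact congrArg ((-1 : ℤ) ^ (i : ℕ) • ·) (NatTrans.naturality_apply ι.hom _ _)

/-- Pullback of `G_m`-cohomology to a closed subscheme is bijective in positive degrees. -/
theorem bijective_HGmPull (hI : I ≠ ⊤) [PreservesFiniteLimits (EtCoh.pull (qIncl I))] (i : ℕ) (hi : 1 ≤ i) :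
    Function.Bijective (EtLim.HGmPull (qIncl I) i) := by
  obtain ⟨n, rfl⟩ := Nat.exists_eq_succ_of_ne_zero (by omega : i ≠ 0)
  let Z := EtCoh.const (Spec (CommRingCat.of R)) ℤ
  have hS := gmSeq_shortExact I
  have hN : ∀ m, Subsingleton (Ext.{u + 1} Z (gmSeq I).X₁ (m + 1)) := fun m =>
    FinAcyclic.subsingleton_H (finAcyclic_kernel I hI) m
  have b₁ : Function.Bijective fun x : Ext.{u + 1} Z (gmSeq I).X₂ (n + 1) =>
      x.comp (Ext.mk₀ (gmMap I)) (add_zero (n + 1)) := by
    refine ⟨(injective_iff_map_eq_zero ((Ext.mk₀ (gmSeq I).g).postcomp Z (add_zero (n + 1)))).2 fun x hx => ?_,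
      fun y => Ext.covariant_sequence_exact₃ Z hS y rfl ((hN (n + 1)).elim _ _)⟩
    obtain ⟨w, rfl⟩ := Ext.covariant_sequence_exact₂ Z hS x hx
    rw [(hN n).elim w 0, Ext.zero_comp]
  have : (EtCoh.push (qIncl I)).PreservesHomology := Et18.push_preservesHomology_of_integral _
  have : PreservesFiniteColimits (EtCoh.push (qIncl I)) :=
    Functor.preservesFiniteColimits_of_preservesHomology _
  have : PreservesFiniteLimits (EtCoh.push (qIncl I)) :=
    have : (EtCoh.push (qIncl I)).IsRightAdjoint := ⟨_, ⟨EtCoh.pullPushAdj _⟩⟩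
    inferInstance
  have b₂ := bijective_map_counit.{_, _, _, _, u + 1, u + 1} (EtCoh.pull (qIncl I))
    (EtCoh.push (qIncl I)) (EtCoh.pullPushAdj (qIncl I)) (EtCore.pullConst (qIncl I) ℤ).inv
    (EtCoh.Gm (Spec (CommRingCat.of (R ⧸ I)))) (n + 1)
  exact b₂.comp b₁

end Groth.Agent.Desc19b.HenselRel
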