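import Groth.Agent.Desc19b.HenselRel.Basis1
import Groth.Agent.HenselLib.Local
import Groth.Prelude.Def_EtLim

/-!
# Units congruent to one on the closed fibre
-/

set_option autoImplicit false
set_option linter.all false
set_option backward.isDefEq.respectTransparency.types false
set_option backward.isDefEq.respectTransparency false
set_option synthInstance.maxHeartbeats 400000

universe u

open CategoryTheory CategoryTheory.Limits AlgebraicGeometry Opposite
open Groth.Agent.EtCechLib Groth.Agent.Et18.Descent0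

namespace Groth.Agent.Desc19b.HenselRel

variable {R : Type u} [CommRing R] [HenselianLocalRing R] (I : Ideal R)

/-- The inclusion of a closed subscheme of a henselian local scheme. -/
noncomputable abbrev qIncl : Spec (CommRingCat.of (R ⧸ I)) ⟶ Spec (CommRingCat.of R) :=
  Spec.map (CommRingCat.ofHom (Ideal.Quotient.mk I))

instance : IsClosedImmersion (qIncl I) := IsClosedImmersion.spec_of_surjective _ Ideal.Quotient.mk_surjective

theorem henselianRing_le (hI : I ≠ ⊤) : HenselianRing R I := by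
  have hle : I ≤ IsLocalRing.maximalIdeal R := IsLocalRing.le_maximalIdeal hI
  have hj : I ≤ Ideal.jacobson ⊥ := hle.trans (HenselLib.maximalIdeal_le_jacobson R)
  refine ⟨hj, fun f hf a₀ h0 h1 => ?_⟩
  have hu₀ : IsUnit (f.derivative.eval a₀) := HenselLib.isUnit_of_isUnit_mk hj h1
  obtain ⟨a, ha, haa⟩ := HenselianLocalRing.is_henselian f hf a₀ (hle h0) hu₀
  refine ⟨a, ha, Ideal.Quotient.eq.1 ?_⟩
  let q := Ideal.Quotient.mk I
  refine (HenselLib.root_unique (I := (IsLocalRing.maximalIdeal R).map q) ?_ (f.map q)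
    (a := q a₀) (b := q a) ?_ ?_ ?_ ?_).symm
  · intro y hy
    obtain ⟨y, hy', rfl⟩ := (Ideal.mem_map_iff_of_surjective q Ideal.Quotient.mk_surjective).1 hy
    refine Ideal.mem_jacobson_bot.2 fun z => ?_
    obtain ⟨z, rfl⟩ := Ideal.Quotient.mk_surjective z
    show IsUnit (q y * q z + 1)
    rw [← map_mul, ← map_one q, ← map_add]
    exact (Ideal.mem_jacobson_bot.1 (HenselLib.maximalIdeal_le_jacobson R hy') z).map q
  · rw [Polynomial.IsRoot, Polynomial.eval_map, Polynomial.eval₂_hom]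
    exact Ideal.Quotient.eq_zero_iff_mem.2 h0
  · rw [Polynomial.IsRoot, Polynomial.eval_map, Polynomial.eval₂_hom, ha, map_zero]
  · rw [← map_sub]
    exact Ideal.mem_map_of_mem q haa
  · rw [Polynomial.derivative_map, Polynomial.eval_map, Polynomial.eval₂_hom]
    exact (hu₀.map q).map _

/-- The comparison of the multiplicative groups. -/
noncomputable abbrev gmMap (I : Ideal R) : EtCoh.Gm (Spec (CommRingCat.of R)) ⟶
    (EtCoh.push (qIncl I)).obj (EtCoh.Gm (Spec (CommRingCat.of ((R ⧸ I))))) :=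
  EtLim.GmPush (qIncl I)

/-- The ring map of an étale scheme over the base. -/
noncomputable abbrev strMap (Q : (Spec (CommRingCat.of R)).Etale) : R →+* Γ(Q.left, ⊤) :=
  ((Scheme.ΓSpecIso (CommRingCat.of R)).inv ≫ Q.hom.appTop).hom

/-- A section of the multiplicative group as a unit. -/
noncomputable abbrev secU {Q : (Spec (CommRingCat.of R)).Etale}
    (u : Γ(Q.left, ⊤)ˣ) : (EtCoh.Gm (Spec (CommRingCat.of R))).obj.obj (op Q) :=
  ULift.up (Additive.ofMul u)

theorem exists_secU {Q : (Spec (CommRingCat.of R)).Etale}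
    (x : (EtCoh.Gm (Spec (CommRingCat.of R))).obj.obj (op Q)) : ∃ u, secU u = x := ⟨x.down.toMul, rfl⟩

theorem map_secU {Q Q' : (Spec (CommRingCat.of R)).Etale} (f : Q' ⟶ Q) (u : Γ(Q.left, ⊤)ˣ) :
    (EtCoh.Gm (Spec (CommRingCat.of R))).obj.map f.op (secU u) =
      secU (Units.map f.left.appTop.hom.toMonoidHom u) := rfl

/-- The closed fibre inclusion. -/
noncomputable abbrev fib (I : Ideal R) (Q : (Spec (CommRingCat.of R)).Etale) :
    pullback Q.hom (qIncl I) ⟶ Q.left := pullback.fst Q.hom (qIncl I)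

theorem mem_ker_fib (Q : (Spec (CommRingCat.of R)).Etale) [IsAffine Q.left] (x : Γ(Q.left, ⊤)) :
    (fib I Q).appTop x = 0 ↔ x ∈ I.map (strMap Q) := by
  constructor
  · intro hx
    let J : Ideal Γ(Q.left, ⊤) := I.map (strMap Q)
    let π : Γ(Q.left, ⊤) ⟶ CommRingCat.of (Γ(Q.left, ⊤) ⧸ J) := CommRingCat.ofHom (Ideal.Quotient.mk J)
    let ρ : (R ⧸ I) →+* Γ(Q.left, ⊤) ⧸ J :=
      Ideal.Quotient.lift _ ((Ideal.Quotient.mk J).comp (strMap Q)) fun r hr =>
        Ideal.Quotient.eq_zero_iff_mem.2 (Ideal.mem_map_of_mem _ hr)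
    let s : Spec (CommRingCat.of (Γ(Q.left, ⊤) ⧸ J)) ⟶ Q.left := Spec.map π ≫ Q.left.isoSpec.inv
    have hQ : Q.left.isoSpec.inv ≫ Q.hom = Spec.map (CommRingCat.ofHom (strMap Q)) := by
      rw [Iso.inv_comp_eq]
      show Q.hom = Q.left.toSpecΓ ≫ Spec.map _
      rw [CommRingCat.ofHom_hom, Spec.map_comp, ← Scheme.toSpecΓ_naturality_assoc]
      erw [toSpecΓ_SpecMap_ΓSpecIso_inv, Category.comp_id]
    have hc : s ≫ Q.hom = Spec.map (CommRingCat.ofHom ρ) ≫ qIncl I := by
      simp only [s]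
      rw [Category.assoc, hQ, ← Spec.map_comp, qIncl, ← Spec.map_comp]
      rfl
    have hs : s.appTop x = 0 := by
      rw [← pullback.lift_fst (f := Q.hom) (g := qIncl I) s _ hc, Scheme.Hom.comp_appTop]
      show (pullback.lift s _ hc).appTop ((fib I Q).appTop x) = 0
      rw [hx, map_zero]
    have hsx : s.appTop = π ≫ (Scheme.ΓSpecIso _).inv := by simp [s, Scheme.isoSpec]
    rw [hsx] at hs
    have h0 : π x = 0 := (ConcreteCategory.bijective_of_isIso
      (Scheme.ΓSpecIso (CommRingCat.of (Γ(Q.left, ⊤) ⧸ J))).inv).1 (hs.trans (map_zero _).symm)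
    exact Ideal.Quotient.eq_zero_iff_mem.1 h0
  · intro hx
    refine (Ideal.map_le_iff_le_comap (K := RingHom.ker (fib I Q).appTop.hom)).2 (fun r hr => ?_) hx
    rw [Ideal.mem_comap, RingHom.mem_ker]
    show ((Scheme.ΓSpecIso (CommRingCat.of R)).inv ≫ Q.hom.appTop ≫ (fib I Q).appTop) r = 0
    rw [← Scheme.Hom.comp_appTop, pullback.condition, Scheme.Hom.comp_appTop,
      ← Scheme.ΓSpecIso_inv_naturality_assoc]
    show (pullback.snd Q.hom (qIncl I)).appTop ((Scheme.ΓSpecIso _).inv (Ideal.Quotient.mk I r)) = 0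
    rw [Ideal.Quotient.eq_zero_iff_mem.2 hr, map_zero, map_zero]

theorem gmMap_secU_eq_zero (Q : (Spec (CommRingCat.of R)).Etale) (u : Γ(Q.left, ⊤)ˣ) :
    (gmMap I).hom.app (op Q) (secU u) = 0 ↔ (fib I Q).appTop (u : Γ(Q.left, ⊤)) = 1 := by
  constructor
  · intro h
    exact congrArg (fun v => (Additive.toMul (ULift.down v)).val) h
  · intro h
    exact congrArg (fun v => ULift.up (Additive.ofMul v)) (Units.ext h)

theorem gmMap_eq_zero_iff (Q : (Spec (CommRingCat.of R)).Etale) [IsAffine Q.left] (u : Γ(Q.left, ⊤)ˣ) :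
    (gmMap I).hom.app (op Q) (secU u) = 0 ↔
      (u : Γ(Q.left, ⊤)) - 1 ∈ I.map (strMap Q) := by
  rw [gmMap_secU_eq_zero, ← mem_ker_fib, map_sub, map_one, sub_eq_zero]

theorem isAffine_of_isFin {Q : (Spec (CommRingCat.of R)).Etale} (h : IsFin Q) : IsAffine Q.left :=
  haveI : IsFinite Q.hom := h
  haveI : IsAffine ((Functor.fromPUnit (Spec (CommRingCat.of R))).obj Q.right) :=
    inferInstanceAs (IsAffine (Spec (CommRingCat.of R)))
  isAffine_of_isAffineHom Q.hom

theorem finite_strMap {Q : (Spec (CommRingCat.of R)).Etale} (h : IsFin Q) : (strMap Q).Finite := by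
  haveI : IsFinite Q.hom := h
  haveI : IsAffine ((Functor.fromPUnit (Spec (CommRingCat.of R))).obj Q.right) :=
    inferInstanceAs (IsAffine (Spec (CommRingCat.of R)))
  have h1 := IsFinite.finite_app Q.hom ⊤ (isAffineOpen_top _)
  exact h1.comp (RingHom.Finite.of_surjective _
    (ConcreteCategory.bijective_of_isIso (Scheme.ΓSpecIso (CommRingCat.of R)).inv).2)

theorem surjective_gmMap (hI : I ≠ ⊤) {Q : (Spec (CommRingCat.of R)).Etale} (hQ : IsFin Q) :
    Function.Surjective ((gmMap I).hom.app (op Q)) := by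
  haveI := isAffine_of_isFin hQ
  intro v
  haveI : IsClosedImmersion (fib I Q) := MorphismProperty.pullback_fst _ _ (inferInstance : IsClosedImmersion (qIncl I))
  have hsurj : Function.Surjective (fib I Q).appTop := (IsClosedImmersion.isAffine_surjective_of_isAffine (fib I Q)).2
  obtain ⟨w, rfl⟩ : ∃ w : Γ(pullback Q.hom (qIncl I), ⊤)ˣ, ULift.up (Additive.ofMul w) = v :=
    ⟨v.down.toMul, rfl⟩
  obtain ⟨a, ha⟩ := hsurj w.val
  obtain ⟨b, hb⟩ := hsurj w.inv
  algebraize [strMap Q]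
  haveI : Module.Finite R Γ(Q.left, ⊤) := finite_strMap hQ
  have hab : a * b - 1 ∈ I.map (strMap Q) := (mem_ker_fib I Q _).1 (by
    rw [map_sub, map_mul, map_one, ha, hb, w.val_inv, sub_self])
  have hu : IsUnit (a * b) := by
    have := Ideal.mem_jacobson_bot.1 (HenselLib.map_maximalIdeal_le_jacobson R Γ(Q.left, ⊤)
      (Ideal.map_mono (IsLocalRing.le_maximalIdeal hI) hab)) 1
    rwa [mul_one, sub_add_cancel] at this
  exact ⟨secU (isUnit_of_mul_isUnit_left hu).unit, congrArg (fun x => ULift.up (Additive.ofMul x)) (Units.ext ha)⟩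

theorem epi_gmMap : Epi (gmMap I) := by
  suffices Sheaf.IsLocallySurjective (gmMap I) from
    (Sheaf.isLocallySurjective_iff_epi' (A := AddCommGrpCat.{u + 1}) (gmMap I)).1 this
  refine ⟨fun {U} x => ?_⟩
  let arrs := Σ W : (Spec (CommRingCat.of R)).Etale, {f : W ⟶ U // (Presheaf.imageSieve (gmMap I).hom x) f}
  refine GrothendieckTopology.superset_covering _ (S := Sieve.ofArrows (fun p : arrs => p.1) fun p => p.2.1) ?_
    (HenselLib.Kummer.mem_of_points U _ fun t => ?_)
  · rintro W f ⟨_, g, _, ⟨p⟩, rfl⟩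
    exact (Presheaf.imageSieve (gmMap I).hom x).downward_closed p.2.2 g
  obtain ⟨O, hO, htO, -⟩ := exists_isAffineOpen_mem_and_subset (X := U.left) (x := t) (U := ⊤) trivial
  haveI : Etale U.hom := U.prop
  let Q : (Spec (CommRingCat.of R)).Etale := Scheme.Etale.mk (O.ι ≫ U.hom)
  let f : Q ⟶ U := MorphismProperty.Over.homMk O.ι rfl
  haveI : IsAffine Q.left := hO
  haveI : IsClosedImmersion (fib I Q) := MorphismProperty.pullback_fst _ _ (inferInstance : IsClosedImmersion (qIncl I))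
  let v := ((EtCoh.push (qIncl I)).obj (EtCoh.Gm _)).obj.map f.op x
  have hsurj : Function.Surjective (fib I Q).appTop := (IsClosedImmersion.isAffine_surjective_of_isAffine (fib I Q)).2
  obtain ⟨w, hw⟩ : ∃ w : Γ(pullback Q.hom (qIncl I), ⊤)ˣ, ULift.up (Additive.ofMul w) = v := ⟨v.down.toMul, rfl⟩
  obtain ⟨a, ha⟩ := hsurj w.val
  by_cases ht : (⟨t, htO⟩ : Q.left) ∈ Q.left.basicOpen a
  · let D := Q.left.basicOpen a
    let W : (Spec (CommRingCat.of R)).Etale :=
      haveI : Etale Q.hom := Q.prop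
      Scheme.Etale.mk (D.ι ≫ Q.hom)
    let g : W ⟶ Q := MorphismProperty.Over.homMk D.ι rfl
    have hu : IsUnit (D.ι.appTop a) := by
      rw [Scheme.Opens.ι_appTop]
      have h0 := (Q.left.toRingedSpace.isUnit_res_basicOpen a).map
        (Q.left.presheaf.map (homOfLE (Scheme.Opens.ι_image_top D).le).op).hom
      refine (congrArg IsUnit ((ConcreteCategory.comp_apply _ _ _).symm.trans ?_)).mp h0
      exact (ConcreteCategory.congr_hom (Q.left.presheaf.map_comp _ _) a).symm
    refine ⟨W, g ≫ f, ⟨⟨t, htO⟩, ht⟩, Sieve.ofArrows_mk _ _ (⟨W, g ≫ f, secU hu.unit, ?_⟩ : arrs), rfl⟩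
    rw [op_comp, Functor.map_comp, ConcreteCategory.comp_apply]
    refine Eq.trans ?_ (congrArg _ hw)
    refine congrArg (fun v => ULift.up (Additive.ofMul v)) (Units.ext ?_)
    show (fib I W).appTop (g.left.appTop a) = ((EtCoh.bc (qIncl I)).map g).left.appTop w.val
    rw [← ha]
    exact (ConcreteCategory.congr_hom (congrArg Scheme.Hom.appTop (EtCoh.isPullback_bc_map (qIncl I) g).w) a).symm
  · let K : U.left.Opens := O.ι ''ᵁ ⟨(Set.range (fib I Q))ᶜ, (fib I Q).isClosedEmbedding.isClosed_range.isOpen_compl⟩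
    have htK : t ∈ K := ⟨⟨t, htO⟩, fun ⟨z, hz⟩ => ht (by
      rw [← hz]
      show z ∈ (fib I Q) ⁻¹ᵁ (Q.left.basicOpen a)
      rw [Scheme.preimage_basicOpen_top, ha, Scheme.basicOpen_of_isUnit _ w.isUnit]
      trivial), rfl⟩
    let W : (Spec (CommRingCat.of R)).Etale := Scheme.Etale.mk (K.ι ≫ U.hom)
    let g : W ⟶ U := MorphismProperty.Over.homMk K.ι rfl
    haveI : IsEmpty ((EtCoh.bc (qIncl I)).obj W).left := ⟨fun z => by
      obtain ⟨q, hq, hq'⟩ := ((pullback.fst (K.ι ≫ U.hom) (qIncl I)) z).2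
      refine hq ?_
      obtain ⟨y, hy, -⟩ := Scheme.Pullback.exists_preimage_pullback (f := Q.hom) (g := qIncl I) q
        ((pullback.snd (K.ι ≫ U.hom) (qIncl I)) z) (by
          exact (congrArg (fun p => U.hom p) hq').trans
            (congrArg (fun f => f z) (pullback.condition (f := K.ι ≫ U.hom) (g := qIncl I))))
      exact ⟨y, hy⟩⟩
    exact ⟨W, g, ⟨t, htK⟩, Sieve.ofArrows_mk _ _
      (⟨W, g, 0, sections_eq_of_isEmpty (Z := (EtCoh.bc (qIncl I)).obj W) (EtCoh.Gm _) _ _⟩ : arrs), rfl⟩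

end Groth.Agent.Desc19b.HenselRel
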